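import Groth.Agent.LefPen24.HypIdeal
import Groth.Agent.Coherent.ProjSpaceBase
import Groth.Agent.ProjLib.IdealComap

/-!
# Base change and diagonal changes of coordinates for hypersurfaces of `P^n`

For a field extension `K → L` and non-zero scalars `c i : L`, the map `P^n_L → P^n_K` dual to
`X_i ↦ c_i X_i` is a base change, and pulls `V(G)` back to `V(G(c X))`.
-/

set_option autoImplicit false
set_option backward.isDefEq.respectTransparency.types false

universe u

open CategoryTheory CategoryTheory.Limits AlgebraicGeometry MvPolynomial TensorProduct Opposite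
open Groth.Agent.AmpleLib Groth.Agent.LefPen24

namespace Groth.Agent.Cubic5

variable {K L : Type u} [Field K] [Field L] [Algebra K L] {n d : ℕ} (c : Fin (n + 1) → Lˣ)

/-- `X_i ↦ c_i X_i`, on polynomials. -/
noncomputable def subst : MvPolynomial (Fin (n + 1)) K →ₐ[K] MvPolynomial (Fin (n + 1)) L :=
  aeval fun i => C (c i : L) * X i

theorem subst_X (i : Fin (n + 1)) : subst (K := K) c (X i) = C (c i : L) * X i := aeval_X _ _

theorem subst_mem {i : ℕ} {p : MvPolynomial (Fin (n + 1)) K} (hp : p ∈ CohB1.polyGrading n K i) :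
    subst c p ∈ CohB1.polyGrading n L i := by
  have h := MvPolynomial.IsHomogeneous.aeval (R := K) (S := L) hp (fun i => C (c i : L) * X i)
    (fun i => isHomogeneous_C_mul_X (c i : L) i)
  rwa [one_mul] at h

/-- The graded map. -/
noncomputable def gmap : CohB1.polyGrading n K →+*ᵍ CohB1.polyGrading n L where
  toRingHom := (subst c).toRingHom
  map_mem hp := subst_mem c hp

theorem gmap_X (i : Fin (n + 1)) : gmap (K := K) c (X i) = C (c i : L) * X i := subst_X c i

theorem gmap_irrelevant :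
    HomogeneousIdeal.irrelevant (CohB1.polyGrading n L) ≤
      (HomogeneousIdeal.irrelevant (CohB1.polyGrading n K)).map (gmap c) := by
  intro p hp
  refine (Ideal.span_le.2 ?_ : Ideal.span _ ≤ _) (ProjLib.irrelevant_le_span_X n L hp)
  rintro _ ⟨i, rfl⟩
  have h : C (((c i)⁻¹ : Lˣ) : L) * gmap (K := K) c (X i) = X i := by
    rw [gmap_X, ← mul_assoc, ← C_mul, Units.inv_mul, C_1, one_mul]
  rw [← h]
  exact Ideal.mul_mem_left _ _ (Ideal.mem_map_of_mem _
    (HomogeneousIdeal.mem_irrelevant_of_mem _ one_pos (ProjLib.X_mem_polyGrading n K i)))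

/-- The map `P^n_L → P^n_K`. -/
noncomputable def pmap : CohB1.ProjSpace n L ⟶ CohB1.ProjSpace n K :=
  Proj.map (gmap c) (gmap_irrelevant c)

theorem subst_inv (i : Fin (n + 1)) :
    C (((c i)⁻¹ : Lˣ) : L) * subst (K := K) c (X i) = X i := by
  rw [subst_X, ← mul_assoc, ← C_mul, Units.inv_mul, C_1, one_mul]

/-- `L ⊗ K[X] → L[X]`. -/
noncomputable def tensorHom : L ⊗[K] MvPolynomial (Fin (n + 1)) K →ₐ[L] MvPolynomial (Fin (n + 1)) L :=
  Algebra.TensorProduct.lift (Algebra.ofId L _) (subst c) fun _ _ => Commute.all _ _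

theorem tensorHom_tmul (a : L) (p : MvPolynomial (Fin (n + 1)) K) :
    tensorHom c (a ⊗ₜ[K] p) = C a * subst c p :=
  Algebra.TensorProduct.lift_tmul _ _ _ a p

/-- The inverse of `tensorHom`. -/
noncomputable def tensorInv : MvPolynomial (Fin (n + 1)) L →ₐ[L] L ⊗[K] MvPolynomial (Fin (n + 1)) K :=
  aeval fun i => (((c i)⁻¹ : Lˣ) : L) ⊗ₜ[K] (X i : MvPolynomial (Fin (n + 1)) K)

/-- `L ⊗ K[X] ≃ L[X]`. -/
noncomputable def tensorEquiv : L ⊗[K] MvPolynomial (Fin (n + 1)) K ≃ₐ[L] MvPolynomial (Fin (n + 1)) L :=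
  AlgEquiv.ofAlgHom (tensorHom c) (tensorInv c)
    (MvPolynomial.algHom_ext fun i => by
      rw [AlgHom.comp_apply, tensorInv, aeval_X, tensorHom_tmul, subst_inv, AlgHom.id_apply])
    (by
      refine Algebra.TensorProduct.ext (Algebra.ext_id _ _ _) (MvPolynomial.algHom_ext fun i => ?_)
      change tensorInv c (tensorHom c ((1 : L) ⊗ₜ[K] X i)) = (1 : L) ⊗ₜ[K] X i
      rw [tensorHom_tmul, C_1, one_mul, subst_X, map_mul, tensorInv, aeval_C, aeval_X,
        Algebra.TensorProduct.algebraMap_apply, Algebra.TensorProduct.tmul_mul_tmul, one_mul,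
        Algebra.algebraMap_self, RingHom.id_apply, Units.mul_inv])

theorem isPullback_pmap :
    IsPullback (pmap (K := K) c) (CohB1.ProjSpace.toSpec n L) (CohB1.ProjSpace.toSpec n K)
      (Spec.map (CommRingCat.ofHom (algebraMap K L))) := by
  let : Algebra (MvPolynomial (Fin (n + 1)) K) (MvPolynomial (Fin (n + 1)) L) := (subst c).toRingHom.toAlgebra
  have : IsScalarTower K (MvPolynomial (Fin (n + 1)) K) (MvPolynomial (Fin (n + 1)) L) :=
    IsScalarTower.of_algebraMap_eq fun r => ((subst c).commutes r).symm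
  have : Algebra.IsPushout K L (MvPolynomial (Fin (n + 1)) K) (MvPolynomial (Fin (n + 1)) L) :=
    ⟨IsBaseChange.of_equiv (tensorEquiv c).toLinearEquiv fun p => by
      change tensorHom c ((1 : L) ⊗ₜ[K] p) = subst c p
      rw [tensorHom_tmul, C_1, one_mul]⟩
  have h : ∀ b : MvPolynomial (Fin (n + 1)) K,
      gmap c b = algebraMap (MvPolynomial (Fin (n + 1)) K) (MvPolynomial (Fin (n + 1)) L) b := fun b => by
    rw [RingHom.algebraMap_toAlgebra]; rfl
  have h2 := ProjLib.map_isPullback (R' := K) (R := L) (gmap c) h (gmap_irrelevant c)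
  exact h2

/-- The transformed form. -/
noncomputable def mapForm (G : LefPen.Form n K d) : LefPen.Form n L d :=
  ⟨gmap c G.1, (gmap c).map_mem G.2⟩

theorem basicOpen_gmap_X (j : Fin (n + 1)) :
    Proj.basicOpen (CohB1.polyGrading n L) (gmap (K := K) c (X j)) = LefPen.chart n L j := by
  refine TopologicalSpace.Opens.ext (Set.ext fun x => ?_)
  show gmap (K := K) c (X j) ∉ x.asHomogeneousIdeal.toIdeal ↔ X j ∉ x.asHomogeneousIdeal.toIdeal
  rw [gmap_X]
  exact not_congr (Ideal.unit_mul_mem_iff_mem _ ((Units.isUnit (c j)).map C))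

/-- The hypersurface pulls back to the hypersurface of the transformed form. -/
theorem comap_hypIdeal (G : LefPen.Form n K d) :
    (LefPen.hypIdeal G).comap (pmap c) = LefPen.hypIdeal (mapForm c G) := by
  have hX : ∀ j, gmap (K := K) c (X j) ∈ CohB1.polyGrading n L 1 := fun j =>
    (gmap c).map_mem (LefPen.X_mem n K j)
  refine Scheme.IdealSheafData.ext_of_iSup_eq_top
    (fun j => (⟨Proj.basicOpen (CohB1.polyGrading n L) (gmap (K := K) c (X j)),
      Proj.isAffineOpen_basicOpen _ _ (hX j) one_pos⟩ : (CohB1.ProjSpace n L).affineOpens)) ?_ fun j => ?_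
  · simp only [basicOpen_gmap_X]
    exact ProjLib.iSup_basicOpen_X n L
  have hW : Proj.basicOpen (CohB1.polyGrading n L) (gmap (K := K) c (X j)) ≤ LefPen.chart n L j :=
    (basicOpen_gmap_X c j).le
  rw [ProjLib.comap_ideal_eq (LefPen.hypIdeal G) (pmap c)
      ⟨LefPen.chart n K j, isAffineOpen_chart j⟩ _ le_rfl, ideal_hypIdeal_chart, ideal_hypIdeal,
    famIdeal_eq_span (mapForm c G) j hW, Ideal.map_span, Set.image_singleton]
  have himg : (pmap c).appLE (LefPen.chart n K j)
      (Proj.basicOpen (CohB1.polyGrading n L) (gmap (K := K) c (X j))) le_rfl (LefPen.dehom G j) =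
      (Proj.awayToSection (CohB1.polyGrading n L) (gmap (K := K) c (X j))).hom
        (HomogeneousLocalization.Away.mk (CohB1.polyGrading n L) (hX j) d (gmap c G.1)
          (by rw [smul_eq_mul, mul_one]; exact (gmap c).map_mem G.2)) := by
    refine (ConcreteCategory.congr_hom (Proj.awayToSection_comp_appLE (gmap c) (gmap_irrelevant c)
      (LefPen.X_mem n K j)) _).trans ?_
    exact congrArg (fun y => (Proj.awayToSection (CohB1.polyGrading n L) (gmap (K := K) c (X j))).hom y)
      (HomogeneousLocalization.Away.map_mk (gmap c) (X j) (LefPen.X_mem n K j) d G.1 _)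
  let sc : L → Γ(CohB1.ProjSpace n L, Proj.basicOpen (CohB1.polyGrading n L) (gmap (K := K) c (X j))) :=
    fun a => (Proj.awayToSection (CohB1.polyGrading n L) (gmap (K := K) c (X j))).hom
      (HomogeneousLocalization.Away.mk (CohB1.polyGrading n L) (hX j) 0 (C a)
        (by rw [zero_smul]; exact isHomogeneous_C _ a))
  have hsc : ∀ a x, secVal (sc a) x = Localization.mk (C a) ⟨gmap (K := K) c (X j) ^ 0, Submonoid.pow_mem _ x.2 0⟩ :=
    fun a x => Coherent.val_awayToSection_mk (hX j) 0 _ _ x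
  have hu : IsUnit (sc (((c j : L) ^ d)⁻¹)) := by
    refine IsUnit.of_mul_eq_one (sc ((c j : L) ^ d)) (sec_ext fun x => ?_)
    refine (secVal_mul _ _ x).trans ?_
    refine Eq.trans ?_ HomogeneousLocalization.val_one.symm
    rw [hsc, hsc, Localization.mk_mul, ← Localization.mk_one]
    refine Localization.mk_eq_mk_iff.2 (Localization.r_iff_exists.2 ⟨1, ?_⟩)
    simp only [Submonoid.coe_mul, Submonoid.coe_one, pow_zero, one_mul, mul_one]
    rw [← C_mul, inv_mul_cancel₀ (pow_ne_zero d (Units.ne_zero _)), C_1]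
  refine Eq.trans ?_ (Ideal.span_singleton_mul_left_unit hu _)
  congr 2
  refine himg.trans (sec_ext fun x => ?_)
  refine Eq.trans ?_ (secVal_mul (sc (((c j : L) ^ d)⁻¹)) (res hW (LefPen.dehom (mapForm c G) j)) x).symm
  refine (Coherent.val_awayToSection_mk (hX j) d _ _ x).trans ?_
  refine Eq.trans ?_ (congrArg₂ (· * ·) (hsc _ x).symm
    (((secVal_res hW (LefPen.dehom (mapForm c G) j) x).trans (secVal_dehom (mapForm c G) j ⟨x.1, hW x.2⟩))).symm)
  rw [Localization.mk_mul]
  refine Localization.mk_eq_mk_iff.2 (Localization.r_iff_exists.2 ⟨1, ?_⟩)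
  simp only [Submonoid.coe_mul, Submonoid.coe_one, pow_zero, one_mul]
  have h1 : C (((c j : L) ^ d)⁻¹) * gmap (K := K) c (X j) ^ d = (X j : MvPolynomial (Fin (n + 1)) L) ^ d := by
    rw [gmap_X, mul_pow, ← C_pow, ← mul_assoc, ← C_mul, inv_mul_cancel₀ (pow_ne_zero d (Units.ne_zero _)),
      C_1, one_mul]
  show _ = _ * (C (((c j : L) ^ d)⁻¹) * gmap c G.1)
  rw [← h1]; ring

/-- `V(G(cX))` is the base change of `V(G)`. -/
theorem exists_isPullback_hyp (G : LefPen.Form n K d) :
    ∃ g : (LefPen.hypIdeal (mapForm c G)).subscheme ⟶ (LefPen.hypIdeal G).subscheme,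
      IsPullback g ((LefPen.hypIdeal (mapForm c G)).subschemeι ≫ CohB1.ProjSpace.toSpec n L)
        ((LefPen.hypIdeal G).subschemeι ≫ CohB1.ProjSpace.toSpec n K)
        (Spec.map (CommRingCat.ofHom (algebraMap K L))) := by
  rw [← comap_hypIdeal c G]
  let I := LefPen.hypIdeal G
  refine ⟨(I.comapIso (pmap c)).hom ≫ pullback.snd _ _, ?_⟩
  have h := ((IsPullback.of_hasPullback (pmap c) I.subschemeι).flip).paste_vert (isPullback_pmap c)
  exact h.of_iso (I.comapIso (pmap c)).symm (Iso.refl _) (Iso.refl _) (Iso.refl _)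
    (by rw [Iso.symm_hom, Iso.refl_hom, Category.comp_id, Iso.inv_hom_id_assoc]) (by simp [I]) (by simp [I]) (by simp)

end Groth.Agent.Cubic5
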