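import Groth.Agent.LefPen24.HypIdeal
import Groth.Agent.ProjLib.AwayDehom
import Groth.Agent.ProjLib.BaseChange
import Groth.Agent.EmbLib24.Coord
import Groth.Agent.EGA41Lib.SmoothQuotientZariski

/-!
# Jacobian criterion for smoothness of a hypersurface of `P^n`, chart by chart
-/

set_option autoImplicit false
set_option linter.style.haveILetI false
set_option backward.isDefEq.respectTransparency.types false

universe u

open CategoryTheory CategoryTheory.Limits AlgebraicGeometry MvPolynomial Opposite
open Groth.Agent.LefPen24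

namespace Groth.Agent.Cubic5

variable {K : Type u} [Field K] {n d : ℕ}

/-- `(G, X_j - 1)`. -/
noncomputable def chartIdeal (G : MvPolynomial (Fin (n + 1)) K) (j : Fin (n + 1)) :
    Ideal (MvPolynomial (Fin (n + 1)) K) :=
  Ideal.span {X j - 1, G}

/-- The Jacobian condition. -/
def JacGood (G : MvPolynomial (Fin (n + 1)) K) : Prop :=
  ∀ (j : Fin (n + 1)) (q : Ideal (MvPolynomial (Fin (n + 1)) K)), q.IsPrime →
    X j - 1 ∈ q → G ∈ q → ∃ i, i ≠ j ∧ pderiv i G ∉ q

theorem smooth_chart (G : MvPolynomial (Fin (n + 1)) K) (hJ : JacGood G) (j : Fin (n + 1)) :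
    Algebra.Smooth K (MvPolynomial (Fin (n + 1)) K ⧸ chartIdeal G j) := by
  let P := MvPolynomial (Fin (n + 1)) K
  let C := P ⧸ chartIdeal G j
  haveI : Algebra.FinitePresentation K C :=
    Algebra.FinitePresentation.quotient (IsNoetherian.noetherian _)
  refine ⟨Algebra.smoothLocus_eq_univ_iff.1 (Set.eq_univ_of_forall fun p => ?_), inferInstance⟩
  have hsurj : Function.Surjective (algebraMap P C) := Ideal.Quotient.mk_surjective
  let q : Ideal P := p.asIdeal.comap (algebraMap P C)
  have hker : RingHom.ker (algebraMap P C) = chartIdeal G j := Ideal.mk_ker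
  have hle : chartIdeal G j ≤ q := hker ▸ Ideal.comap_mono bot_le
  obtain ⟨i, hij, hi⟩ := hJ j q inferInstance
    (hle (Ideal.subset_span (Set.mem_insert _ _))) (hle (Ideal.subset_span (Set.mem_insert_of_mem _ rfl)))
  refine (EGA41Lib.SQL.formallySmooth_iff_exists_det (A := K) (B := P) (C := C) hsurj p.asIdeal q
    (fun y => Iff.rfl) (chartIdeal G j) hker).2
    ⟨2, ![X j - 1, G], ![pderiv j, pderiv i], ?_, ?_, ?_⟩
  · intro l
    fin_cases l
    · exact Ideal.subset_span (Set.mem_insert _ _)
    · exact Ideal.subset_span (Set.mem_insert_of_mem _ rfl)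
  · refine (congrArg (Ideal.map _) (show chartIdeal G j = Ideal.span {X j - 1, G} from rfl)).trans
      ((Ideal.map_span _ _).trans ?_)
    congr 1
    ext z
    simp [Fin.exists_fin_two, eq_comm]
  · rw [Matrix.det_fin_two]
    have e : pderiv j (X j - 1 : MvPolynomial (Fin (n + 1)) K) * pderiv i G -
        pderiv i (X j - 1 : MvPolynomial (Fin (n + 1)) K) * pderiv j G = pderiv i G := by
      rw [map_sub, map_sub, pderiv_one, pderiv_one, pderiv_X_self, pderiv_X_of_ne hij.symm]
      ring
    simp only [Matrix.of_apply, Matrix.cons_val_zero, Matrix.cons_val_one]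
    intro h
    exact hi (e ▸ h)

variable (G : LefPen.Form n K d)

/-- `K[X] → Γ(D₊(X_j))`. -/
noncomputable def toChart (j : Fin (n + 1)) :
    MvPolynomial (Fin (n + 1)) K →+* Γ(CohB1.ProjSpace n K, LefPen.chart n K j) :=
  (Proj.awayToSection (CohB1.polyGrading n K) (X j)).hom.comp
    (ProjLib.dehom (GradedRingHom.id (CohB1.polyGrading n K)) (LefPen.X_mem n K j))

theorem toChart_surjective (j : Fin (n + 1)) : Function.Surjective (toChart (K := K) j) := by
  refine (ConcreteCategory.bijective_of_isIso (Proj.basicOpenIsoAway (CohB1.polyGrading n K) (X j)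
    (LefPen.X_mem n K j) one_pos).hom).2.comp fun x => ?_
  obtain ⟨y, hy⟩ := Ideal.Quotient.mk_surjective (ProjLib.awayEquivQuotient (LefPen.X_mem n K j) x)
  refine ⟨y, ?_⟩
  exact ((congrArg (ProjLib.awayEquivQuotient (LefPen.X_mem n K j)).symm hy).trans
    (RingEquiv.symm_apply_apply _ x) :)

theorem toChart_apply (j : Fin (n + 1)) : toChart j G.1 = LefPen.dehom G j := by
  refine congrArg (fun y => (Proj.awayToSection (CohB1.polyGrading n K) (X j)).hom y) (HomogeneousLocalization.val_injective _ ?_)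
  rw [ProjLib.dehom_val _ _ G.2, HomogeneousLocalization.Away.val_mk]
  rfl

theorem ker_toChart (j : Fin (n + 1)) :
    RingHom.ker (toChart (K := K) j) = Ideal.span {(X j : MvPolynomial (Fin (n + 1)) K) - 1} := by
  ext p
  rw [RingHom.mem_ker]
  refine Iff.trans (map_eq_zero_iff (Proj.awayToSection (CohB1.polyGrading n K) (X j)).hom ?_) ?_
  rotate_left
  · rw [show ProjLib.dehom (GradedRingHom.id (CohB1.polyGrading n K)) (LefPen.X_mem n K j) p =
      (ProjLib.awayEquivQuotient (LefPen.X_mem n K j)).symm (Ideal.Quotient.mk _ p) from rfl,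
      RingEquiv.map_eq_zero_iff, Ideal.Quotient.eq_zero_iff_mem]
  · exact (ConcreteCategory.bijective_of_isIso (Proj.basicOpenIsoAway (CohB1.polyGrading n K) (X j)
      (LefPen.X_mem n K j) one_pos).hom).1

theorem comap_toChart (j : Fin (n + 1)) :
    ((LefPen.hypIdeal G).ideal ⟨LefPen.chart n K j, isAffineOpen_chart j⟩).comap (toChart j) =
      chartIdeal G.1 j := by
  rw [ideal_hypIdeal_chart, ← toChart_apply, ← Set.image_singleton, ← Ideal.map_span,
    Ideal.comap_map_of_surjective _ (toChart_surjective j), ← RingHom.ker_eq_comap_bot, ker_toChart,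
    chartIdeal, Ideal.span_insert, sup_comm]

theorem toChart_C (j : Fin (n + 1)) (a : K) :
    toChart j (C a) = (CohB1.ProjSpace.toSpec n K).appLE ⊤ (LefPen.chart n K j) le_top
      ((Scheme.ΓSpecIso (CommRingCat.of K)).inv.hom a) := by
  refine Eq.trans ?_ (EmbLib24.awayToSection_const n K j a)
  refine congrArg (fun y => (Proj.awayToSection (CohB1.polyGrading n K) (X j)).hom y)
    (HomogeneousLocalization.val_injective _ ?_)
  rw [ProjLib.dehom_val _ _ (isHomogeneous_C _ a)]
  rfl

/-- A hypersurface satisfying the Jacobian condition is smooth. -/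
theorem smooth_hyp (hJ : JacGood G.1) :
    Smooth ((LefPen.hypIdeal G).subschemeι ≫ CohB1.ProjSpace.toSpec n K) := by
  let ι := (LefPen.hypIdeal G).subschemeι
  refine HasRingHomProperty.of_iSup_eq_top (P := @Smooth)
    (fun j => (⟨ι ⁻¹ᵁ LefPen.chart n K j, (isAffineOpen_chart j).preimage ι⟩ :
      (LefPen.hypIdeal G).subscheme.affineOpens)) ?_ fun j => ?_
  · rw [← Scheme.Hom.preimage_iSup,
      show ⨆ j, LefPen.chart n K j = ⊤ from ProjLib.iSup_basicOpen_X n K, Scheme.Hom.preimage_top]
  let A := MvPolynomial (Fin (n + 1)) K ⧸ chartIdeal G.1 j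
  let ψ : MvPolynomial (Fin (n + 1)) K →+* Γ((LefPen.hypIdeal G).subscheme, ι ⁻¹ᵁ LefPen.chart n K j) :=
    (ι.app (LefPen.chart n K j)).hom.comp (toChart j)
  have hψs : Function.Surjective ψ :=
    (ι.app_surjective _ (isAffineOpen_chart j)).comp (toChart_surjective j)
  have hψk : RingHom.ker ψ = chartIdeal G.1 j := by
    rw [← RingHom.comap_ker, Scheme.IdealSheafData.ker_subschemeι_app _
      ⟨LefPen.chart n K j, isAffineOpen_chart j⟩, comap_toChart]
  let e : A ≃+* Γ((LefPen.hypIdeal G).subscheme, ι ⁻¹ᵁ LefPen.chart n K j) :=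
    (Ideal.quotEquivOfEq hψk.symm).trans (RingHom.quotientKerEquivOfSurjective hψs)
  haveI : Algebra.Smooth K A := smooth_chart G.1 hJ j
  have hK : (algebraMap K A).Smooth := RingHom.smooth_algebraMap.2 inferInstance
  have h := RingHom.Smooth.respectsIso.2 (e.toRingHom.comp (algebraMap K A))
    (Scheme.ΓSpecIso (CommRingCat.of K)).commRingCatIsoToRingEquiv
    (RingHom.Smooth.respectsIso.1 (algebraMap K A) e hK)
  convert h using 1
  refine RingHom.ext fun x => ?_
  obtain ⟨a, rfl⟩ := (ConcreteCategory.bijective_of_isIso (Scheme.ΓSpecIso (CommRingCat.of K)).inv).2 x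
  rw [Scheme.Hom.appLE, Scheme.Hom.comp_app]
  refine Eq.trans ?_ (congrArg (fun z => e (algebraMap K A z))
    (CategoryTheory.Iso.inv_hom_id_apply (Scheme.ΓSpecIso (CommRingCat.of K)) a)).symm
  show _ = (ι.app (LefPen.chart n K j)).hom (toChart j (C a))
  rw [toChart_C, Scheme.Hom.appLE]
  simp only [CommRingCat.comp_apply]
  exact (ConcreteCategory.congr_hom (ι.naturality (homOfLE le_top).op) _).symm

end Groth.Agent.Cubic5
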