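import Groth.Prelude.Def_ModFun
import Groth.Agent.Cubic5.BaseChange
import Groth.Agent.Cubic5.Smooth
import Groth.Agent.LefPen24.PlaneImage
import Groth.Agent.AbVarLib.GeomIntegralSmooth

/-!
# Diagonal plane cubics `a X₀³ + b X₁³ + c X₂³ + e X₀X₁X₂` are curves of genus one
-/

set_option autoImplicit false
set_option linter.style.haveILetI false
set_option backward.isDefEq.respectTransparency.types false

universe u

open CategoryTheory CategoryTheory.Limits AlgebraicGeometry MvPolynomial TopologicalSpace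
open Groth.Agent.LefPen24

namespace Groth.Agent.Cubic5

variable {K : Type u} [Field K]

theorem cubic_mem (a b c e : K) :
    C a * X 0 ^ 3 + C b * X 1 ^ 3 + C c * X 2 ^ 3 + C e * (X 0 * X 1 * X 2) ∈
      CohB1.polyGrading 2 K 3 :=
  ((((isHomogeneous_X_pow (0 : Fin 3) 3).C_mul a).add ((isHomogeneous_X_pow (1 : Fin 3) 3).C_mul b)).add
    ((isHomogeneous_X_pow (2 : Fin 3) 3).C_mul c)).add
    ((((isHomogeneous_X K (0 : Fin 3)).mul (isHomogeneous_X K 1)).mul (isHomogeneous_X K 2)).C_mul e)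

/-- The cubic form. -/
noncomputable def cubic (a b c e : K) : LefPen.Form 2 K 3 := ⟨_, cubic_mem a b c e⟩

theorem coe_cubic (a b c e : K) : (cubic a b c e : MvPolynomial (Fin (2 + 1)) K) =
    C a * X 0 ^ 3 + C b * X 1 ^ 3 + C c * X 2 ^ 3 + C e * (X 0 * X 1 * X 2) := rfl

/-- The coefficients give a smooth cubic by inspection. -/
def Good (a b c e : K) : Prop :=
  a ≠ 0 ∧ b ≠ 0 ∧ c ≠ 0 ∧ (((3 : K) ≠ 0 ∧ e = 0) ∨ ((3 : K) = 0 ∧ e ≠ 0))

theorem cubic_ne_zero {a b c e : K} (ha : a ≠ 0) : cubic a b c e ≠ 0 := by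
  intro h
  have h1 := congrArg (fun F : LefPen.Form 2 K 3 => eval ![1, 0, 0] F.1) h
  exact ha (by simpa [coe_cubic] using h1)

theorem jacGood {a b c e : K} (h : Good a b c e) :
    JacGood ((cubic a b c e : LefPen.Form 2 K 3) : MvPolynomial (Fin (2 + 1)) K) := by
  obtain ⟨ha, hb, hc, h3⟩ := h
  intro j q hq hj hG
  by_contra hcon
  push Not at hcon
  have hu : ∀ x : K, x ≠ 0 → ∀ p, C x * p ∈ q → p ∈ q := fun x hx p hp =>
    (Ideal.unit_mul_mem_iff_mem q ((IsUnit.mk0 x hx).map C)).1 hp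
  have hj1 : (X j : MvPolynomial (Fin (2 + 1)) K) ∉ q := fun hx => hq.ne_top ((Ideal.eq_top_iff_one _).2 (by
    simpa using Ideal.sub_mem _ hx hj))
  suffices hne : ∀ i, i ≠ j → (X i : MvPolynomial (Fin (2 + 1)) K) ∈ q by
    rw [coe_cubic] at hG
    have m0 : ∀ (x : K) (i : Fin 3), i ≠ j → C x * X i ^ 3 ∈ q := fun x i hi =>
      Ideal.mul_mem_left _ _ (Ideal.pow_mem_of_mem _ (hne i hi) 3 (by norm_num))
    have m1 : C e * (X 0 * X 1 * X 2 : MvPolynomial (Fin (2 + 1)) K) ∈ q := by
      fin_cases j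
      · exact Ideal.mul_mem_left _ _ (Ideal.mul_mem_left _ _ (hne 2 (by decide)))
      all_goals exact Ideal.mul_mem_left _ _ (Ideal.mul_mem_right _ _ (Ideal.mul_mem_right _ _ (hne 0 (by decide))))
    have h0 := (Ideal.add_mem_iff_left _ m1).1 hG
    fin_cases j
    · exact hj1 (hq.mem_of_pow_mem 3 (hu a ha _ ((Ideal.add_mem_iff_left _ (m0 b 1 (by decide))).1
        ((Ideal.add_mem_iff_left _ (m0 c 2 (by decide))).1 h0))))
    · exact hj1 (hq.mem_of_pow_mem 3 (hu b hb _ ((Ideal.add_mem_iff_right _ (m0 a 0 (by decide))).1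
        ((Ideal.add_mem_iff_left _ (m0 c 2 (by decide))).1 h0))))
    · exact hj1 (hq.mem_of_pow_mem 3 (hu c hc _ ((Ideal.add_mem_iff_right _
        (q.add_mem (m0 a 0 (by decide)) (m0 b 1 (by decide)))).1 h0)))
  have hd : ∀ i, pderiv i ((cubic a b c e : LefPen.Form 2 K 3) : MvPolynomial (Fin (2 + 1)) K) =
      ![C ((3 : K) * a) * X 0 ^ 2 + C e * (X 1 * X 2), C ((3 : K) * b) * X 1 ^ 2 + C e * (X 0 * X 2),
        C ((3 : K) * c) * X 2 ^ 2 + C e * (X 0 * X 1)] i := by
    intro i
    rw [coe_cubic]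
    fin_cases i <;>
      simp [map_add, Derivation.leibniz, Derivation.leibniz_pow, pderiv_C, pderiv_X, Pi.single_apply,
        map_mul, map_ofNat] <;> ring
  rcases h3 with ⟨h3, rfl⟩ | ⟨h3, he⟩
  · intro i hi
    have h := hcon i hi
    rw [hd] at h
    fin_cases i
    · exact hq.mem_of_pow_mem 2 (hu _ (mul_ne_zero h3 ha) _ (by simpa using h))
    · exact hq.mem_of_pow_mem 2 (hu _ (mul_ne_zero h3 hb) _ (by simpa using h))
    · exact hq.mem_of_pow_mem 2 (hu _ (mul_ne_zero h3 hc) _ (by simpa using h))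
  · have h' : ∀ i, i ≠ j → ![X 1 * X 2, X 0 * X 2, X 0 * X 1] i ∈ q := fun i hi => by
      have h := hcon i hi
      rw [hd, h3] at h
      fin_cases i <;> exact hu e he _ (by simpa using h)
    intro i hi
    fin_cases j <;> fin_cases i <;> first
      | exact absurd rfl hi
      | exact ((hq.mem_or_mem (h' 2 (by decide))).resolve_left hj1)
      | exact ((hq.mem_or_mem (h' 1 (by decide))).resolve_left hj1)
      | exact ((hq.mem_or_mem (h' 0 (by decide))).resolve_left hj1)
      | exact ((hq.mem_or_mem (h' 2 (by decide))).resolve_right hj1)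
      | exact ((hq.mem_or_mem (h' 1 (by decide))).resolve_right hj1)
      | exact ((hq.mem_or_mem (h' 0 (by decide))).resolve_right hj1)

/-- The substitution keeps the shape of the cubic. -/
theorem mapForm_cubic {L : Type u} [Field L] [Algebra K L] (s : Fin (2 + 1) → Lˣ) (a b c e : K) :
    mapForm s (cubic a b c e) = cubic (algebraMap K L a * (s 0 : L) ^ 3)
      (algebraMap K L b * (s 1 : L) ^ 3) (algebraMap K L c * (s 2 : L) ^ 3)
      (algebraMap K L e * ((s 0 : L) * (s 1 : L) * (s 2 : L))) := by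
  refine Subtype.ext ?_
  show subst s _ = _
  rw [coe_cubic, coe_cubic]
  simp only [subst, map_add, map_mul, map_pow, aeval_C, aeval_X, MvPolynomial.algebraMap_apply]
  ring

variable {a b c e : K}

/-- The curve. -/
noncomputable abbrev curve (a b c e : K) : Scheme.{u} := (LefPen.hypIdeal (cubic a b c e)).subscheme

/-- Its structure morphism. -/
noncomputable abbrev curveToSpec (a b c e : K) : curve a b c e ⟶ Spec (CommRingCat.of K) :=
  (LefPen.hypIdeal (cubic a b c e)).subschemeι ≫ CohB1.ProjSpace.toSpec 2 K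

theorem exists_isPullback_curve {L : Type u} [Field L] [Algebra K L] (s : Fin (2 + 1) → Lˣ)
    {a' b' c' e' : L} (ha : algebraMap K L a * (s 0 : L) ^ 3 = a') (hb : algebraMap K L b * (s 1 : L) ^ 3 = b')
    (hc : algebraMap K L c * (s 2 : L) ^ 3 = c')
    (he : algebraMap K L e * ((s 0 : L) * (s 1 : L) * (s 2 : L)) = e') :
    ∃ g : curve a' b' c' e' ⟶ curve a b c e,
      IsPullback g (curveToSpec a' b' c' e') (curveToSpec a b c e)
        (Spec.map (CommRingCat.ofHom (algebraMap K L))) := by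
  subst ha hb hc he
  suffices h : ∀ G' : LefPen.Form 2 L 3, mapForm s (cubic a b c e) = G' →
      ∃ g : (LefPen.hypIdeal G').subscheme ⟶ curve a b c e,
        IsPullback g ((LefPen.hypIdeal G').subschemeι ≫ CohB1.ProjSpace.toSpec 2 L) (curveToSpec a b c e)
          (Spec.map (CommRingCat.ofHom (algebraMap K L))) from h _ (mapForm_cubic s a b c e)
  rintro G' rfl
  exact exists_isPullback_hyp s (cubic a b c e)

theorem isProper_curve (a b c e : K) : IsProper (curveToSpec a b c e) := by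
  haveI : IsProper (CohB1.ProjSpace.toSpec 2 K) := CurveLib.isProper_projSpace K 2
  infer_instance

theorem curve_facts (h : Good a b c e) :
    IrreducibleSpace (curve a b c e) ∧ topologicalKrullDim (curve a b c e) = 1 ∧
      (letI : (curve a b c e).Over (Spec (CommRingCat.of K)) := ⟨curveToSpec a b c e⟩
       Curv2.genus K (curve a b c e) = 1) := by
  let G := cubic a b c e
  let f := curveToSpec a b c e
  letI : (curve a b c e).Over (Spec (CommRingCat.of K)) := ⟨f⟩
  obtain ⟨h0, h1⟩ := finrank_planeCurve G (cubic_ne_zero h.1) (by norm_num)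
    (inst := ⟨curveToSpec a b c e⟩) rfl
  haveI : IsProper f := isProper_curve a b c e
  haveI : Smooth f := smooth_hyp G (jacGood h)
  haveI := connectedSpace_of_finrank K h0
  haveI := AbVarLib.isIntegral_of_smooth_connected f
  refine ⟨inferInstance, ?_, h1.trans (by decide)⟩
  let ι := (LefPen.hypIdeal G).subschemeι
  let η := genericPoint (curve a b c e)
  let z : ProjectiveSpectrum (CohB1.polyGrading 2 K) := ι η
  have hsupp : ∀ (y : ProjectiveSpectrum (CohB1.polyGrading 2 K)), y ∈ Set.range ι ↔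
      (G : MvPolynomial (Fin (2 + 1)) K) ∈ y.asHomogeneousIdeal.toIdeal := by
    intro y
    obtain ⟨j, hj⟩ := Opens.mem_iSup.1 ((ProjLib.iSup_basicOpen_X 2 K).ge (Set.mem_univ y))
    let U : (CohB1.ProjSpace 2 K).affineOpens := ⟨LefPen.chart 2 K j, isAffineOpen_chart j⟩
    have h := Set.ext_iff.1 ((LefPen.hypIdeal G).coe_support_inter U) y
    rw [ideal_hypIdeal_chart, Scheme.zeroLocus_span] at h
    have hy : y ∈ Set.range ι ↔ y ∉ (CohB1.ProjSpace 2 K).basicOpen (LefPen.dehom G j) := by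
      rw [Scheme.IdealSheafData.range_subschemeι]
      refine ⟨fun hy => ?_, fun hy => (h.2 ⟨?_, hj⟩).1⟩
      · have := (h.1 ⟨hy, hj⟩).1
        exact (Scheme.mem_zeroLocus_iff _ _ _).1 this _ (Set.mem_singleton _)
      · exact (Scheme.mem_zeroLocus_iff _ _ _).2 fun f hf => by
          rw [Set.mem_singleton_iff] at hf
          subst hf
          exact hy
    rw [hy]
    erw [TwistLib.G.basicOpen_away (LefPen.X_mem 2 K j) 3 G.1]
    show ¬ (X j * (G : MvPolynomial (Fin (2 + 1)) K) ∉ y.asHomogeneousIdeal.toIdeal) ↔ _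
    rw [not_not]
    exact ⟨fun hm => (y.isPrime.mem_or_mem hm).resolve_left hj, fun hm => Ideal.mul_mem_left _ _ hm⟩
  have hG : (G : MvPolynomial (Fin (2 + 1)) K) ∈ z.asHomogeneousIdeal.toIdeal := (hsupp z).1 ⟨η, rfl⟩
  have hle : DimLib.PN.cdim z.asHomogeneousIdeal.toIdeal ≤ 2 := by
    have hne : (⊥ : Ideal (MvPolynomial (Fin (2 + 1)) K)) ≠ z.asHomogeneousIdeal.toIdeal := fun he => by
      rw [← he, Ideal.mem_bot] at hG
      exact cubic_ne_zero h.1 (Subtype.ext hG)
    have := DimLib.PN.cdim_lt Ideal.isPrime_bot z.isPrime bot_le hne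
    rw [DimLib.PN.cdim_bot] at this
    omega
  obtain ⟨w, hwz, hwG, hw⟩ := DimLib.PN.exists_above G.2 z hG
  obtain ⟨y, hy⟩ := (hsupp w).2 hwG
  have hzw : w = z := by
    subst hy
    exact @Inseparable.eq (CohB1.ProjSpace 2 K) _ _ (ι y) (ι η)
      (hwz.antisymm ((genericPoint_specializes y).map ι.continuous))
  rw [hzw] at hw
  have h2 := DimLib.PN.ptDim_add_one z
  rw [DimLib.topologicalKrullDim_eq_ptDim_genericPoint f, DimLib.ptDim_comp_preimmersion]
  have h3 : DimLib.ptDim (CohB1.ProjSpace.toSpec 2 K) (DimLib.PN.pt z) = 1 := by omega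
  exact congrArg Nat.cast h3

/-- A diagonal cubic is a curve of genus one. -/
theorem isCurveOfGenus_curve (h : Good a b c e) : ModFun.IsCurveOfGenus 1 (curveToSpec a b c e) := by
  have key : ∀ (L : Type u) [Field L] (y : Spec (CommRingCat.of L) ⟶ Spec (CommRingCat.of K)) (Z : Scheme.{u})
      (fst : Z ⟶ curve a b c e) (snd : Z ⟶ Spec (CommRingCat.of L)),
      IsPullback fst snd (curveToSpec a b c e) y → IrreducibleSpace Z ∧ topologicalKrullDim Z = 1 ∧
        (letI : Z.Over (Spec (CommRingCat.of L)) := ⟨snd⟩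
         Curv2.genus L Z = 1) := by
    intro L _ y Z fst snd hpb
    obtain ⟨φ, rfl⟩ : ∃ φ, Spec.map φ = y := ⟨_, Spec.map_preimage y⟩
    letI : Algebra K L := φ.hom.toAlgebra
    obtain ⟨g, hg⟩ := exists_isPullback_curve (a := a) (b := b) (c := c) (e := e) (fun _ => (1 : Lˣ))
      (a' := algebraMap K L a) (b' := algebraMap K L b) (c' := algebraMap K L c) (e' := algebraMap K L e)
      (by simp) (by simp) (by simp) (by simp)
    have hgood : Good (algebraMap K L a) (algebraMap K L b) (algebraMap K L c) (algebraMap K L e) := by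
      obtain ⟨ha, hb, hc, h3⟩ := h
      have h33 : (3 : L) = algebraMap K L 3 := (map_ofNat _ 3).symm
      exact ⟨(map_ne_zero _).2 ha, (map_ne_zero _).2 hb, (map_ne_zero _).2 hc, h3.imp
        (fun ⟨u, v⟩ => ⟨h33 ▸ (map_ne_zero _).2 u, by rw [v, map_zero]⟩)
        fun ⟨u, v⟩ => ⟨by rw [h33, u, map_zero], (map_ne_zero _).2 v⟩⟩
    obtain ⟨hi, hd, hge⟩ := curve_facts hgood
    let ε : Z ≅ _ := hpb.isoIsPullback _ _ hg
    refine ⟨?_, (IsHomeomorph.topologicalKrullDim_eq _ (Scheme.homeoOfIso ε).isHomeomorph).trans hd, ?_⟩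
    · haveI := hi
      exact (Scheme.homeoOfIso ε).irreducibleSpace_iff.2 hi
    · letI : Z.Over (Spec (CommRingCat.of L)) := ⟨snd⟩
      letI : (curve (algebraMap K L a) (algebraMap K L b) (algebraMap K L c) (algebraMap K L e)).Over
        (Spec (CommRingCat.of L)) := ⟨curveToSpec _ _ _ _⟩
      haveI := isProper_curve (algebraMap K L a) (algebraMap K L b) (algebraMap K L c) (algebraMap K L e)
      haveI : IsProper (curve (algebraMap K L a) (algebraMap K L b) (algebraMap K L c) (algebraMap K L e) ↘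
        Spec (CommRingCat.of L)) := this
      haveI := EulerLib.isNoetherian_of_proper L
        (X := curve (algebraMap K L a) (algebraMap K L b) (algebraMap K L c) (algebraMap K L e))
      have h' : IsPullback ε.hom snd (curveToSpec _ _ _ _) (Spec.map (CommRingCat.ofHom (algebraMap L L))) := by
        rw [show CommRingCat.ofHom (algebraMap L L) = 𝟙 _ from rfl, Spec.map_id]
        exact IsPullback.of_horiz_isIso ⟨by rw [Category.comp_id]; exact hpb.isoIsPullback_hom_snd _ _ hg⟩
      exact (CurveRR24.genus_bc h').trans hge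
  refine ⟨smooth_hyp _ (jacGood h), isProper_curve a b c e, ⟨fun L _ y Z fst snd hpb =>
    (key L y Z fst snd hpb).1⟩, fun Ω _ _ t X i q hpb => ⟨(key Ω t X i q hpb).2.1, (key Ω t X i q hpb).2.2⟩⟩

end Groth.Agent.Cubic5
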