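import Groth.Agent.Cubic5.Smooth
import Groth.Agent.LefPen24.DehomEval

/-!
# Rational points of hypersurfaces of `P^n`
-/

set_option autoImplicit false
set_option linter.style.haveILetI false
set_option backward.isDefEq.respectTransparency.types false

universe u

open CategoryTheory CategoryTheory.Limits AlgebraicGeometry MvPolynomial TopologicalSpace
open Groth.Agent.LefPen24

namespace Groth.Agent.Cubic5

variable {K : Type u} [Field K] {n d : ℕ} (G : LefPen.Form n K d)

/-- A zero with a coordinate `1` gives a rational point. -/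
theorem exists_section_of_zero (j : Fin (n + 1)) (x : Fin (n + 1) → K) (hx : x j = 1)
    (h0 : eval x G.1 = 0) :
    ∃ σ : Spec (CommRingCat.of K) ⟶ (LefPen.hypIdeal G).subscheme,
      σ ≫ (LefPen.hypIdeal G).subschemeι ≫ CohB1.ProjSpace.toSpec n K = 𝟙 _ := by
  let ι := (LefPen.hypIdeal G).subschemeι
  have hV : IsAffineOpen (ι ⁻¹ᵁ LefPen.chart n K j) := (isAffineOpen_chart j).preimage ι
  let ψ : MvPolynomial (Fin (n + 1)) K →+* Γ((LefPen.hypIdeal G).subscheme, ι ⁻¹ᵁ LefPen.chart n K j) :=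
    (ι.app (LefPen.chart n K j)).hom.comp (toChart j)
  have hψs : Function.Surjective ψ :=
    (ι.app_surjective _ (isAffineOpen_chart j)).comp (toChart_surjective j)
  have hψk : RingHom.ker ψ ≤ RingHom.ker (eval x) := by
    rw [← RingHom.comap_ker, Scheme.IdealSheafData.ker_subschemeι_app _
      ⟨LefPen.chart n K j, isAffineOpen_chart j⟩, comap_toChart]
    refine Ideal.span_le.2 ?_
    rintro p (rfl | rfl)
    · simp [hx]
    · exact h0
  let χ := RingHom.liftOfSurjective ψ hψs ⟨eval x, hψk⟩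
  refine ⟨Spec.map (CommRingCat.ofHom χ) ≫ hV.fromSpec, ?_⟩
  rw [Category.assoc, ← IsAffineOpen.SpecMap_appLE_fromSpec (ι ≫ CohB1.ProjSpace.toSpec n K)
    (isAffineOpen_top (Spec (CommRingCat.of K))) hV le_top, ← Category.assoc, ← Spec.map_comp]
  rw [IsAffineOpen.fromSpec_top, Scheme.isoSpec_Spec_inv, ← Spec.map_comp, ← Spec.map_id]
  congr 1
  refine CommRingCat.hom_ext (RingHom.ext fun a => ?_)
  have h2 : ((ι ≫ CohB1.ProjSpace.toSpec n K).appLE ⊤ (ι ⁻¹ᵁ LefPen.chart n K j) le_top).hom
      ((Scheme.ΓSpecIso (CommRingCat.of K)).inv.hom a) = ψ (C a) := by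
    rw [Scheme.Hom.appLE, Scheme.Hom.comp_app]
    refine Eq.trans ?_ (congrArg (fun z => (ι.app (LefPen.chart n K j)).hom z) (toChart_C j a)).symm
    rw [Scheme.Hom.appLE]
    simp only [CommRingCat.comp_apply]
    exact (ConcreteCategory.congr_hom (ι.naturality (homOfLE le_top).op) _).symm
  refine (congrArg χ h2).trans ?_
  exact (RingHom.liftOfRightInverse_comp_apply ψ _ _ ⟨eval x, hψk⟩ (C a)).trans (eval_C a)

/-- A rational point gives a zero with a coordinate `1`. -/
theorem exists_zero_of_section (σ : Spec (CommRingCat.of K) ⟶ (LefPen.hypIdeal G).subscheme)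
    (hσ : σ ≫ (LefPen.hypIdeal G).subschemeι ≫ CohB1.ProjSpace.toSpec n K = 𝟙 _) :
    ∃ (j : Fin (n + 1)) (x : Fin (n + 1) → K), x j = 1 ∧ eval x G.1 = 0 := by
  let ι := (LefPen.hypIdeal G).subschemeι
  let f := σ ≫ ι
  have hf : f ≫ CohB1.ProjSpace.toSpec n K = 𝟙 _ := by rw [Category.assoc]; exact hσ
  let p : Spec (CommRingCat.of K) := (⊥ : PrimeSpectrum K)
  obtain ⟨j, hj⟩ := Opens.mem_iSup.1 ((ProjLib.iSup_basicOpen_X n K).ge (Set.mem_univ (f p)))
  have hW : (⊤ : (Spec (CommRingCat.of K)).Opens) ≤ f ⁻¹ᵁ LefPen.chart n K j := fun y _ => by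
    obtain rfl : y = p := @Subsingleton.elim (PrimeSpectrum K) _ y p
    exact hj
  let φ : Γ(CohB1.ProjSpace n K, LefPen.chart n K j) →+* K :=
    (Scheme.ΓSpecIso (CommRingCat.of K)).hom.hom.comp (f.appLE (LefPen.chart n K j) ⊤ hW).hom
  refine ⟨j, fun l => φ (EmbLib24.coordFun n K j l), ?_, ?_⟩
  · have h1 : EmbLib24.coordFun n K j j = 1 := by
      refine (congrArg _ (HomogeneousLocalization.val_injective _ ?_)).trans
        (map_one (Proj.awayToSection (CohB1.polyGrading n K) (X j)).hom)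
      rw [EmbLib24.coordFrac, HomogeneousLocalization.Away.val_mk, HomogeneousLocalization.val_one,
        ← Localization.mk_one]
      exact Localization.mk_eq_mk_iff.2 (Localization.r_iff_exists.2 ⟨1, by simp⟩)
    exact (congrArg φ h1).trans (map_one φ)
  · have h0 : φ (LefPen.dehom G j) = 0 := by
      have hker : LefPen.dehom G j ∈ RingHom.ker (ι.app (LefPen.chart n K j)).hom := by
        rw [Scheme.IdealSheafData.ker_subschemeι_app _ ⟨LefPen.chart n K j, isAffineOpen_chart j⟩,
          ideal_hypIdeal_chart]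
        exact Ideal.mem_span_singleton_self _
      show (Scheme.ΓSpecIso (CommRingCat.of K)).hom.hom ((f.appLE (LefPen.chart n K j) ⊤ hW).hom _) = 0
      rw [Scheme.Hom.appLE, Scheme.Hom.comp_app]
      show (Scheme.ΓSpecIso (CommRingCat.of K)).hom.hom
        (((Spec (CommRingCat.of K)).presheaf.map (homOfLE hW).op).hom
          ((σ.app (ι ⁻¹ᵁ LefPen.chart n K j)).hom
            ((ι.app (LefPen.chart n K j)).hom (LefPen.dehom G j)))) = 0
      exact (congrArg (fun z => (Scheme.ΓSpecIso (CommRingCat.of K)).hom.hom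
        (((Spec (CommRingCat.of K)).presheaf.map (homOfLE hW).op).hom
          ((σ.app (ι ⁻¹ᵁ LefPen.chart n K j)).hom z))) (RingHom.mem_ker.1 hker)).trans
          ((congrArg (fun z => (Scheme.ΓSpecIso (CommRingCat.of K)).hom.hom
            (((Spec (CommRingCat.of K)).presheaf.map (homOfLE hW).op).hom z)) (map_zero _)).trans
            ((congrArg (fun z => (Scheme.ΓSpecIso (CommRingCat.of K)).hom.hom z) (map_zero _)).trans (map_zero _)))
    rw [← h0]
    show _ = (Scheme.ΓSpecIso (CommRingCat.of K)).hom.hom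
      ((f.appLE (LefPen.chart n K j) ⊤ hW).hom (LefPen.dehom G j))
    erw [appLE_dehom hf G j hW]
    rw [MvPolynomial.eval₂_comp_left]
    show MvPolynomial.eval₂ (RingHom.id K) (fun l => φ (EmbLib24.coordFun n K j l)) G.1 = _
    refine congrArg (fun g => MvPolynomial.eval₂ g (fun l => φ (EmbLib24.coordFun n K j l)) G.1)
      (RingHom.ext fun a => ?_)
    show a = (Scheme.ΓSpecIso (CommRingCat.of K)).hom.hom _
    rw [EmbLib24.gl, ProjUP.toGlobal]
    simp

end Groth.Agent.Cubic5
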