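import Groth.Agent.Cubic5.Curve
import Groth.Agent.Cubic5.Points
import Mathlib.FieldTheory.RatFunc.Basic
import Mathlib.Algebra.Polynomial.Expand

/-!
# A twisted cubic over `k(t)` without rational points
-/

set_option autoImplicit false
set_option backward.isDefEq.respectTransparency.types false

universe u

open CategoryTheory CategoryTheory.Limits AlgebraicGeometry MvPolynomial

namespace Groth.Agent.Cubic5

/-- `t` dividing forces descent. -/
theorem pow_dvd_of_twist {R : Type*} [CommRing R] [IsDomain R] {t : R} (ht : Prime t) (l : R) (N : ℕ) :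
    ∀ A B C : R, A ^ 3 + t * B ^ 3 + t ^ 2 * C ^ 3 + l * t * (A * B * C) = 0 →
      t ^ N ∣ A ∧ t ^ N ∣ B ∧ t ^ N ∣ C := by
  have step : ∀ A B C : R, A ^ 3 + t * B ^ 3 + t ^ 2 * C ^ 3 + l * t * (A * B * C) = 0 →
      ∃ A', A = t * A' ∧ B ^ 3 + t * C ^ 3 + t ^ 2 * A' ^ 3 + l * t * (B * C * A') = 0 := by
    intro A B C h
    have hd : t ∣ A ^ 3 := ⟨-(B ^ 3 + t * C ^ 3 + l * (A * B * C)), by linear_combination h⟩
    obtain ⟨A', rfl⟩ := ht.dvd_of_dvd_pow hd
    refine ⟨A', rfl, mul_left_cancel₀ ht.ne_zero ?_⟩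
    linear_combination h
  induction N with
  | zero => intros; simp
  | succ N ih =>
    intro A B C h
    obtain ⟨A', rfl, h1⟩ := step A B C h
    obtain ⟨B', rfl, h2⟩ := step B C A' h1
    obtain ⟨C', rfl, h3⟩ := step C A' B' h2
    obtain ⟨hA, hB, hC⟩ := ih A' B' C' h3
    rw [pow_succ']
    exact ⟨mul_dvd_mul_left t hA, mul_dvd_mul_left t hB, mul_dvd_mul_left t hC⟩

variable (k : Type u) [Field k]

open Classical in
/-- The coefficient of `X₀X₁X₂`: `1` in characteristic three, else `0`. -/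
noncomputable def lam : RatFunc k := if (3 : k) = 0 then 1 else 0

theorem three_eq_zero_iff : (3 : RatFunc k) = 0 ↔ (3 : k) = 0 := by
  rw [← map_eq_zero (algebraMap k (RatFunc k)), map_ofNat]

theorem lam_cases :
    ((3 : RatFunc k) ≠ 0 ∧ lam k = 0) ∨ ((3 : RatFunc k) = 0 ∧ lam k = 1) := by
  by_cases h : (3 : k) = 0
  · exact Or.inr ⟨(three_eq_zero_iff k).2 h, by rw [lam, if_pos h]⟩
  · exact Or.inl ⟨fun h' => h ((three_eq_zero_iff k).1 h'), by rw [lam, if_neg h]⟩

theorem good_one : Good (1 : RatFunc k) 1 1 (lam k) :=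
  ⟨one_ne_zero, one_ne_zero, one_ne_zero,
    (lam_cases k).imp id fun ⟨h, e⟩ => ⟨h, by rw [e]; exact one_ne_zero⟩⟩

theorem good_twist : Good (1 : RatFunc k) RatFunc.X (RatFunc.X ^ 2) (lam k * RatFunc.X) :=
  ⟨one_ne_zero, RatFunc.X_ne_zero, pow_ne_zero _ RatFunc.X_ne_zero,
    (lam_cases k).imp (fun ⟨h, e⟩ => ⟨h, by rw [e, zero_mul]⟩)
      fun ⟨h, e⟩ => ⟨h, by rw [e, one_mul]; exact RatFunc.X_ne_zero⟩⟩

/-- The untwisted cubic has a rational point. -/
theorem exists_section_one :
    ∃ σ : Spec (CommRingCat.of (RatFunc k)) ⟶ curve (1 : RatFunc k) 1 1 (lam k),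
      σ ≫ curveToSpec 1 1 1 (lam k) = 𝟙 _ :=
  exists_section_of_zero (cubic (1 : RatFunc k) 1 1 (lam k)) 0 ![1, -1, 0] rfl (by
    rw [coe_cubic]
    simp
    ring)

/-- The twisted cubic has none. -/
theorem no_section_twist (σ : Spec (CommRingCat.of (RatFunc k)) ⟶
    curve (1 : RatFunc k) RatFunc.X (RatFunc.X ^ 2) (lam k * RatFunc.X)) :
    σ ≫ curveToSpec 1 RatFunc.X (RatFunc.X ^ 2) (lam k * RatFunc.X) ≠ 𝟙 _ := by
  intro hσ
  obtain ⟨j, x, hx, h0⟩ := exists_zero_of_section _ σ hσ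
  rw [coe_cubic] at h0
  simp only [map_add, map_mul, map_pow, eval_C, eval_X, one_mul] at h0
  let ι := algebraMap (Polynomial k) (RatFunc k)
  have hι : Function.Injective ι := RatFunc.algebraMap_injective k
  obtain ⟨⟨d, hd⟩, hint⟩ := IsLocalization.exist_integer_multiples_of_finite
    (nonZeroDivisors (Polynomial k)) x
  have hy : ∀ i : Fin 3, ∃ y, ι y = ι d * x i := fun i => by
    obtain ⟨y, hy⟩ := hint i
    exact ⟨y, hy.trans (Algebra.smul_def _ _)⟩
  choose y hy using hy
  obtain ⟨l, hl⟩ : ∃ l, ι l = lam k := by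
    rcases lam_cases k with ⟨-, e⟩ | ⟨-, e⟩
    · exact ⟨0, by rw [e, map_zero]⟩
    · exact ⟨1, by rw [e, map_one]⟩
  have hX : ι Polynomial.X = RatFunc.X := RatFunc.algebraMap_X
  have hyz : y j = 0 := by
    have heq : y 0 ^ 3 + Polynomial.X * y 1 ^ 3 + Polynomial.X ^ 2 * y 2 ^ 3 +
        l * Polynomial.X * (y 0 * y 1 * y 2) = 0 := hι (by
      rw [map_zero, map_add, map_add, map_add, map_mul, map_mul, map_mul, map_mul, map_mul, map_mul,
        map_pow, map_pow, map_pow, map_pow, hy, hy, hy, hl, hX]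
      linear_combination (ι d) ^ 3 * h0)
    have hdvd := pow_dvd_of_twist Polynomial.prime_X l ((y j).natDegree + 1) _ _ _ heq
    refine Polynomial.eq_zero_of_dvd_of_degree_lt (p := Polynomial.X ^ ((y j).natDegree + 1)) ?_ ?_
    · fin_cases j
      exacts [hdvd.1, hdvd.2.1, hdvd.2.2]
    · exact lt_of_le_of_lt Polynomial.degree_le_natDegree (by
        rw [Polynomial.degree_X_pow]; exact_mod_cast Nat.lt_succ_self _)
  have := hy j
  rw [hyz, map_zero, hx, mul_one, eq_comm, map_eq_zero_iff _ hι] at this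
  exact nonZeroDivisors.ne_zero hd this

theorem expand_le : nonZeroDivisors (Polynomial k) ≤
    Submonoid.comap (Polynomial.expand k 3).toRingHom (nonZeroDivisors (Polynomial k)) :=
  nonZeroDivisors_le_comap_nonZeroDivisors_of_injective _ (Polynomial.expand_injective (by norm_num))

/-- The substitution `t ↦ t³`. -/
noncomputable def cube : RatFunc k →+* RatFunc k :=
  RatFunc.mapRingHom (Polynomial.expand k 3).toRingHom (expand_le k)

theorem cube_algebraMap (p : Polynomial k) :
    cube k (algebraMap (Polynomial k) (RatFunc k) p) =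
      algebraMap (Polynomial k) (RatFunc k) (Polynomial.expand k 3 p) := by
  show RatFunc.map (Polynomial.expand k 3).toRingHom (expand_le k) _ = _
  rw [show algebraMap (Polynomial k) (RatFunc k) p = algebraMap (Polynomial k) (RatFunc k) p /
    algebraMap (Polynomial k) (RatFunc k) 1 by
    rw [map_one, div_one], RatFunc.map_apply_div]
  simp

theorem cube_X : cube k RatFunc.X = RatFunc.X ^ 3 := by
  rw [← RatFunc.algebraMap_X, cube_algebraMap, Polynomial.expand_X, map_pow]

theorem cube_C (a : k) : cube k (algebraMap k (RatFunc k) a) = algebraMap k (RatFunc k) a := by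
  rw [IsScalarTower.algebraMap_apply k (Polynomial k) (RatFunc k), cube_algebraMap,
    Polynomial.algebraMap_eq, Polynomial.expand_C]

theorem cube_lam : cube k (lam k) = lam k := by
  rcases lam_cases k with ⟨-, e⟩ | ⟨-, e⟩ <;> simp [e]

theorem exists_isPullback_curve' {K L : Type u} [Field K] [Field L] (φ : K →+* L) (s : Fin (2 + 1) → Lˣ)
    {a b c e : K} {a' b' c' e' : L} (ha : φ a * (s 0 : L) ^ 3 = a') (hb : φ b * (s 1 : L) ^ 3 = b')
    (hc : φ c * (s 2 : L) ^ 3 = c') (he : φ e * ((s 0 : L) * (s 1 : L) * (s 2 : L)) = e') :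
    ∃ g : curve a' b' c' e' ⟶ curve a b c e,
      IsPullback g (curveToSpec a' b' c' e') (curveToSpec a b c e) (Spec.map (CommRingCat.ofHom φ)) :=
  @exists_isPullback_curve K _ a b c e L _ φ.toAlgebra s a' b' c' e' ha hb hc he

theorem exists_isPullback_one :
    ∃ g : curve (1 : RatFunc k) 1 1 (lam k) ⟶ curve (1 : RatFunc k) 1 1 (lam k),
      IsPullback g (curveToSpec 1 1 1 (lam k)) (curveToSpec 1 1 1 (lam k))
        (Spec.map (CommRingCat.ofHom (cube k))) :=
  exists_isPullback_curve' (cube k) (fun _ => 1) (by simp) (by simp) (by simp) (by simp [cube_lam])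

theorem exists_isPullback_twist :
    ∃ g : curve (1 : RatFunc k) 1 1 (lam k) ⟶
        curve (1 : RatFunc k) RatFunc.X (RatFunc.X ^ 2) (lam k * RatFunc.X),
      IsPullback g (curveToSpec 1 1 1 (lam k))
        (curveToSpec 1 RatFunc.X (RatFunc.X ^ 2) (lam k * RatFunc.X))
        (Spec.map (CommRingCat.ofHom (cube k))) := by
  have hX : (RatFunc.X : RatFunc k) ≠ 0 := RatFunc.X_ne_zero
  refine exists_isPullback_curve' (cube k)
    ![1, (Units.mk0 RatFunc.X hX)⁻¹, ((Units.mk0 RatFunc.X hX)⁻¹) ^ 2] ?_ ?_ ?_ ?_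
  · simp
  · simp [cube_X, hX]
  · simp [cube_X]
    field_simp
  · simp [cube_X, cube_lam]
    field_simp

theorem flat_field {A B : Type u} [Field A] [Field B] (φ : A →+* B) : φ.Flat := by
  let := φ.toAlgebra
  exact (inferInstance : Module.Flat A B)

end Groth.Agent.Cubic5
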